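import Cfsg.Agent.H884.Mx.Sum
import Cfsg.Agent.H884.IgCyc
import Cfsg.Agent.H732.SelfCent
import Cfsg.Agent.S2469
import Cfsg.Agent.S2474
import Cfsg.Agent.S0287
import Cfsg.Agent.S0288

/-!
# Commuting elements in the same-characteristic subgroups (helper884, part B of S3679)

`Sel q n s` : `s` is a prime, `s ∣ q ^ (n - 2) - 1`, `ord_s(q) ∤ n`.  The groups `PΩ⁻_{2n}(q)`, `PSp_{2n-2}(q)`, `Ω_{2n-1}(q)`
contain commuting elements of orders `r` (`ord_r(q) = n`) and `s`.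
-/

set_option autoImplicit false

namespace Cfsg.Agent.H884.Mx

open Cfsg Matrix QuadraticMap Cfsg.Agent.LieClassical.OmegaReindex
open Cfsg.Agent.OrdDiv Cfsg.Agent.H436 Cfsg.Agent.H884.El Cfsg.Agent.H884.Ig

/-- the second prime -/
structure Sel (q n s : ℕ) : Prop where
  prime : s.Prime
  dvd : s ∣ q ^ (n - 2) - 1
  ord : ¬ orderOf ((q : ℕ) : ZMod s) ∣ n
  not_dvd : ¬ s ∣ q

theorem exists_sel {q n : ℕ} (hq : 2 ≤ q) (h6 : 6 ≤ n) : ∃ s, Sel q n s := by
  by_cases h : q = 2 ∧ n = 8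
  · obtain ⟨rfl, rfl⟩ := h
    refine ⟨7, by norm_num, by norm_num, ?_, by norm_num⟩
    have : Fact (Nat.Prime 3) := ⟨Nat.prime_three⟩
    have h1 : orderOf ((2 : ℕ) : ZMod 7) = 3 := orderOf_eq_prime (by decide) (by decide)
    rw [h1]
    norm_num
  · obtain ⟨s, hs⟩ := exists_prim hq (e := n - 2) (by omega) (fun h1 => h ⟨h1.1, by omega⟩)
    refine ⟨s, hs.prime, hs.dvd dvd_rfl, ?_, hs.not_dvd⟩
    rw [(pp_of_prim (by omega) hs).ord]
    intro h1
    have h2 : n - 2 ∣ n - (n - 2) := Nat.dvd_sub h1 dvd_rfl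
    have := Nat.le_of_dvd (by omega) h2
    omega

theorem Sel.ne_two {q n s : ℕ} (h : Sel q n s) : s ≠ 2 := by
  rintro rfl
  apply h.ord
  have h1 : ((q : ℕ) : ZMod 2) = 1 := by
    have h2 : q % 2 = 1 := by have := h.not_dvd; omega
    have h3 : ((q : ℕ) : ZMod 2) = ((1 : ℕ) : ZMod 2) := (ZMod.natCast_eq_natCast_iff' _ _ _).2 h2
    rw [h3]
    rfl
  rw [h1, orderOf_one]
  exact one_dvd n

theorem Sel.ord_dvd {q n s : ℕ} (h : Sel q n s) (hq : 1 ≤ q) : orderOf ((q : ℕ) : ZMod s) ∣ n - 2 :=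
  (Lib.Zsigmondy.dvd_pow_sub_one_iff hq _).1 h.dvd

/-- **`PΩ⁻_{2n}(q)`** -/
theorem comm_minus {F : Type} [Field F] [Fintype F] {q n r s : ℕ} (hF : Fintype.card F = q) {a b : F}
    (hab : ∀ z₁ z₂ : F, z₁ ^ 2 + a * z₁ * z₂ + b * z₂ ^ 2 = 0 → z₁ = 0 ∧ z₂ = 0) (hn : Even n) (h6 : 6 ≤ n)
    (hr : Prim q n r) (hs : Sel q n s) :
    ∃ x z : POmega F (quadFormMinus (n - 1) F a b), orderOf x = r ∧ orderOf z = s ∧ x * z = z * x := by
  obtain ⟨k, hk⟩ := hn
  have hrp := Fact.mk hr.prime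
  have hsp := Fact.mk hs.prime
  -- the first element
  have h1 : r ∣ Nat.card (isometryGroup F (quadFormMinus (k - 1) F a b)) := by
    rw [S0288.result hF k (by omega) a b hab]
    refine Dvd.dvd.mul_right (Dvd.dvd.mul_left ?_ _) _
    exact hr.dvd_add (by rw [hk, two_mul]) (fun h => by have := Nat.le_of_dvd (by omega) h; omega)
  obtain ⟨x₀, hx₀⟩ := exists_prime_orderOf_dvd_card' r h1
  -- the second element
  have h2 : s ∣ Nat.card (isometryGroup F (quadFormPlus k F)) := by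
    rw [S0287.result hF k (by omega)]
    refine Dvd.dvd.mul_left ?_ _
    refine Dvd.dvd.trans ?_ (Finset.dvd_prod_of_mem (fun i => q ^ (2 * (i + 1)) - 1)
      (Finset.mem_range.2 (show k - 2 < k - 1 by omega)))
    have h3 : 2 * (k - 2 + 1) = n - 2 := by omega
    rw [h3]
    exact hs.dvd
  obtain ⟨z₀, hz₀⟩ := exists_prime_orderOf_dvd_card' s h2
  have hkn : n - 1 = k + (k - 1) := by omega
  rw [hkn]
  have hx : orderOf (minusSum k (k - 1) a b (1, x₀)) = r := by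
    rw [orderOf_injective _ (minusSum_injective k (k - 1) a b), Prod.orderOf_mk, orderOf_one, hx₀, Nat.lcm_one_left]
  have hz : orderOf (minusSum k (k - 1) a b (z₀, 1)) = s := by
    rw [orderOf_injective _ (minusSum_injective k (k - 1) a b), Prod.orderOf_mk, orderOf_one, hz₀, Nat.lcm_one_right]
  have hxz : minusSum k (k - 1) a b (1, x₀) * minusSum k (k - 1) a b (z₀, 1) =
      minusSum k (k - 1) a b (z₀, 1) * minusSum k (k - 1) a b (1, x₀) := by
    rw [← map_mul, ← map_mul, Prod.mk_mul_mk, Prod.mk_mul_mk, one_mul, mul_one, one_mul, mul_one]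
  have hr2 : r ≠ 2 := by
    have := hr.odd (by omega)
    omega
  have hcard : Fintype.card ((Fin (k + (k - 1)) ⊕ Fin (k + (k - 1))) ⊕ Fin 2) = 2 * n := by
    simp only [Fintype.card_sum, Fintype.card_fin]
    omega
  exact exists_comm' (quadMinus (k + (k - 1)) F a b) (quadMinus_nondegenerate hab) (by rw [hcard]; omega)
    (quadMinus_isotropic (by omega) _ _) (coe_quadMinus _ _ _ _) hr.prime hr2 hs.prime hs.ne_two hx hz hxz

/-- **`PSp_{2n-2}(q)`** -/
theorem range_psp {F : Type} [Field F] [Fintype F] {q n r s : ℕ} (hF : Fintype.card F = q) (hn : Even n) (h6 : 6 ≤ n)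
    (hr : Prim q n r) (hs : Sel q n s) : s * r ∈ Set.range (orderOf : PSp (n - 1) F → ℕ) := by
  by_contra hcon
  obtain ⟨p, hp⟩ := CharP.exists F
  obtain ⟨m, hpp, hm⟩ := FiniteField.card F p
  have hpf := Fact.mk hpp
  have hq : 1 ≤ q := hF ▸ Fintype.card_pos
  have hpq : p ∣ q := by rw [← hF, hm]; exact dvd_pow_self p m.ne_zero
  have hr2 : r ≠ 2 := by
    have := hr.odd (by omega)
    omega
  have hrp : r ≠ p := fun h => hr.not_dvd (h ▸ hpq)
  have hsp : s ≠ p := fun h => hs.not_dvd (h ▸ hpq)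
  have hor := (pp_of_prim hq hr).ord
  have hrs : s ≠ r := by
    rintro rfl
    apply hs.ord
    rw [hor]
  have hcard := H732.SelfCent.card_psp hF (n := n - 1) (by omega)
  obtain ⟨k, hk⟩ := hn
  have hdvd : ∀ t : ℕ, t.Prime → t ≠ 2 → ∀ i < n - 1, t ∣ q ^ (2 * (i + 1)) - 1 → t ∣ Nat.card (PSp (n - 1) F) := by
    intro t ht ht2 i hi hti
    have h1 : t ∣ Nat.card (PSp (n - 1) F) * Nat.gcd 2 (q - 1) := by
      rw [hcard]
      exact Dvd.dvd.mul_left (hti.trans (Finset.dvd_prod_of_mem (fun i => q ^ (2 * (i + 1)) - 1)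
        (Finset.mem_range.2 hi))) _
    rcases ht.dvd_mul.1 h1 with h2 | h2
    · exact h2
    · exfalso
      exact ht2 ((Nat.prime_dvd_prime_iff_eq ht Nat.prime_two).1 (h2.trans (Nat.gcd_dvd_left _ _)))
  have hrT := hdvd r hr.prime hr2 (k - 1) (by omega) (by
    rw [show 2 * (k - 1 + 1) = n by omega]
    exact hr.dvd dvd_rfl)
  have hsT := hdvd s hs.prime hs.ne_two (k - 2) (by omega) (by
    rw [show 2 * (k - 2 + 1) = n - 2 by omega]
    exact hs.dvd)
  have hod := hs.ord_dvd hq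
  set c := orderOf ((q : ℕ) : ZMod s) with hc
  have hc0 : 0 < c := Nat.pos_of_dvd_of_pos hod (by omega)
  have hcle := Nat.le_of_dvd (by omega) hod
  obtain ⟨η, hη, hηle⟩ : ∃ η, ((Odd c ∧ η = c) ∨ (Even c ∧ 2 * η = c)) ∧ η ≤ k - 1 := by
    rcases Nat.even_or_odd c with he | ho
    · obtain ⟨d, hd⟩ := he
      exact ⟨d, Or.inr ⟨⟨d, hd⟩, by omega⟩, by omega⟩
    · refine ⟨c, Or.inl ⟨ho, rfl⟩, ?_⟩
      have h1 : c ∣ 2 * (k - 1) := by rw [show 2 * (k - 1) = n - 2 by omega]; exact hod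
      have h2 : Nat.Coprime c 2 := (Nat.coprime_two_right).2 ho
      exact Nat.le_of_dvd (by omega) (h2.dvd_of_dvd_mul_left h1)
  have key := (S2469.result (F := F) p (n - 1) (by omega) (fun h => by omega) s r hs.prime hr.prime hs.ne_two hr2
    hsp hrp hrs hsT hrT c n η k (by rw [hF]) (by rw [hF]; exact hor.symm) hη (Or.inr ⟨⟨k, hk⟩, by omega⟩)
    (by omega)).1 hcon
  omega

theorem exists_of_range {X : Type*} [Group X] {r s : ℕ} (hr : r.Prime) (hs : s.Prime)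
    (h : s * r ∈ Set.range (orderOf : X → ℕ)) : ∃ x z : X, orderOf x = r ∧ orderOf z = s ∧ x * z = z * x := by
  obtain ⟨g, hg⟩ := h
  have h0 : orderOf g ≠ 0 := by rw [hg]; exact Nat.mul_ne_zero hs.pos.ne' hr.pos.ne'
  refine ⟨g ^ s, g ^ r, ?_, ?_, ?_⟩
  · rw [orderOf_pow_of_dvd hs.pos.ne' (by rw [hg]; exact Dvd.intro _ rfl), hg, Nat.mul_div_cancel_left _ hs.pos]
  · rw [orderOf_pow_of_dvd hr.pos.ne' (by rw [hg]; exact Dvd.intro_left _ rfl), hg, Nat.mul_div_cancel _ hr.pos]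
  · rw [← pow_add, ← pow_add, add_comm]

/-- **the named groups** -/
theorem comm_named {X : Type*} [Group X] {g : Grp} {q n r s : ℕ}
    (hg : g = .ominus n q ∨ g = .psp (n - 1) q ∨ g = .oodd (n - 1) q) (hX : IsNamed g X) (hn : Even n) (h6 : 6 ≤ n)
    (hr : Prim q n r) (hs : Sel q n s) : ∃ x z : X, orderOf x = r ∧ orderOf z = s ∧ x * z = z * x := by
  have tr : ∀ {Y : Type} [Group Y], Nonempty (X ≃* Y) →
      (∃ x z : Y, orderOf x = r ∧ orderOf z = s ∧ x * z = z * x) →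
      ∃ x z : X, orderOf x = r ∧ orderOf z = s ∧ x * z = z * x := by
    rintro Y _ ⟨e⟩ ⟨x, z, hx, hz, hxz⟩
    refine ⟨e.symm x, e.symm z, ?_, ?_, ?_⟩
    · rw [MulEquiv.orderOf_eq, hx]
    · rw [MulEquiv.orderOf_eq, hz]
    · rw [← map_mul, hxz, map_mul]
  obtain ⟨hreal, hcond, -, -⟩ := hX
  rcases hg with rfl | rfl | rfl
  · obtain ⟨F, _, _, a, b, hF, hab, f⟩ := hreal
    exact tr f (comm_minus hF hab hn h6 hr hs)
  · obtain ⟨F, _, _, hF, f⟩ := hreal
    exact tr f (exists_of_range hr.prime hs.prime (range_psp hF hn h6 hr hs))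
  · obtain ⟨F, _, _, hF, f⟩ := hreal
    have hor := (pp_of_prim (hcond.2.2.pos) hr).ord
    have hrs : s ≠ r := by
      rintro rfl
      apply hs.ord
      rw [hor]
    refine tr f (exists_of_range hr.prime hs.prime ?_)
    rw [S2474.result (by rw [hF]; exact hcond.2.1) (n - 1) hcond.1 s r hs.prime hr.prime hrs]
    exact range_psp hF hn h6 hr hs

/-- a primitive prime divisor of `p ^ (n f) - 1` -/
theorem prim_pow {p f n r : ℕ} (hf : 1 ≤ f) (h : Prim p (n * f) r) : Prim (p ^ f) n r := by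
  refine ⟨h.prime, fun m => ?_, fun hd => h.not_dvd (h.prime.dvd_of_dvd_pow hd)⟩
  rw [← pow_mul, h.dvd_iff, mul_comm f m]
  exact Nat.mul_dvd_mul_iff_right (by omega)

/-- **Part B** -/
theorem partB {T : Type*} [Group T] {M : Subgroup T} {g : Grp} {p f n r : ℕ} (hp : p.Prime) (hf : 1 ≤ f)
    (hg : g = .ominus n (p ^ f) ∨ g = .psp (n - 1) (p ^ f) ∨ g = .oodd (n - 1) (p ^ f))
    (hM : ∃ S : Subgroup M, S.Normal ∧ IsSimpleGroup S ∧ ¬ IsMulCommutative S ∧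
      Subgroup.centralizer (S : Set M) = ⊥ ∧ IsNamed g S) (hn : Even n) (h6 : 6 ≤ n) (hr : Prim p (n * f) r) :
    ∃ s : ℕ, s.Prime ∧ ¬ orderOf ((p ^ f : ℕ) : ZMod s) ∣ n ∧ ¬ s ∣ p ^ f ∧
      ∃ x z : T, x ∈ M ∧ z ∈ M ∧ orderOf x = r ∧ orderOf z = s ∧ x * z = z * x := by
  obtain ⟨S, -, -, -, -, hS⟩ := hM
  have hq : 2 ≤ p ^ f := hp.two_le.trans (Nat.le_self_pow (by omega) p)
  obtain ⟨s, hs⟩ := exists_sel hq h6
  obtain ⟨x, z, hx, hz, hxz⟩ := comm_named hg hS hn h6 (prim_pow hf hr) hs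
  refine ⟨s, hs.prime, hs.ord, hs.not_dvd, ((x : M) : T), ((z : M) : T), (x : M).2, (z : M).2, ?_, ?_, ?_⟩
  · rw [Subgroup.orderOf_coe, Subgroup.orderOf_coe, hx]
  · rw [Subgroup.orderOf_coe, Subgroup.orderOf_coe, hz]
  · exact congrArg (fun u : S => ((u : M) : T)) hxz

end Cfsg.Agent.H884.Mx
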