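import Cfsg.Agent.H884.Mx.Comm

/-!
# `PΩ⁻₈(q)`: an element of order `r` (`ord_r(q) = 4`) commuting with `C_u × C_u`, `u ∣ q - 1` (helper884, S3679)
-/

set_option autoImplicit false

namespace Cfsg.Agent.H884.Mx

open Cfsg Matrix QuadraticMap Cfsg.Agent.LieClassical.OmegaReindex
open Cfsg.Agent.OrdDiv Cfsg.Agent.H436 Cfsg.Agent.H884.El Cfsg.Agent.H884.Ig

section plus

variable {F : Type*} [Field F]

/-- the bijection of indices -/
def idxp (k l : ℕ) : (Fin k ⊕ Fin k) ⊕ (Fin l ⊕ Fin l) ≃ Fin (k + l) ⊕ Fin (k + l) :=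
  (Equiv.sumSumSumComm (Fin k) (Fin k) (Fin l) (Fin l)).trans (Equiv.sumCongr finSumFinEquiv finSumFinEquiv)

theorem quadFormPlus_add (k l : ℕ) (v : Fin (k + l) ⊕ Fin (k + l) → F) :
    quadFormPlus (k + l) F v = H372.sumQ (quadFormPlus k F) (quadFormPlus l F) (v ∘ idxp k l) := by
  unfold quadFormPlus H372.sumQ
  rw [Fin.sum_univ_add]
  rfl

/-- `O⁺_{2k} × O⁺_{2l} → O⁺_{2(k+l)}` -/
def plusSum (k l : ℕ) (F : Type*) [Field F] :
    isometryGroup F (quadFormPlus k F) × isometryGroup F (quadFormPlus l F) →*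
      isometryGroup F (quadFormPlus (k + l) F) :=
  (isometryGroupReindex (idxp k l) (H372.sumQ (quadFormPlus k F) (quadFormPlus l F)) (quadFormPlus (k + l) F)
    (quadFormPlus_add k l)).toMonoidHom.comp (H372.isoSum _ _)

theorem plusSum_injective (k l : ℕ) : Function.Injective (plusSum k l F) :=
  (isometryGroupReindex (idxp k l) (H372.sumQ (quadFormPlus k F) (quadFormPlus l F)) (quadFormPlus (k + l) F)
    (quadFormPlus_add k l)).injective.comp (H372.isoSum_injective _ _)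

end plus

/-- **`PΩ⁻₈(q)`** -/
theorem comm3_minus {F : Type} [Field F] [Fintype F] {q r u : ℕ} (hF : Fintype.card F = q) {a b : F}
    (hab : ∀ z₁ z₂ : F, z₁ ^ 2 + a * z₁ * z₂ + b * z₂ ^ 2 = 0 → z₁ = 0 ∧ z₂ = 0) (hr : Prim q 4 r) (hu : u.Prime)
    (hu2 : u ≠ 2) (huq : u ∣ q - 1) :
    ∃ x w₁ w₂ : POmega F (quadFormMinus 3 F a b), orderOf x = r ∧ orderOf w₁ = u ∧ orderOf w₂ = u ∧
      x * w₁ = w₁ * x ∧ x * w₂ = w₂ * x ∧ w₁ * w₂ = w₂ * w₁ ∧ w₂ ∉ Subgroup.zpowers w₁ := by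
  have hrp := Fact.mk hr.prime
  have hup := Fact.mk hu
  have h1 : r ∣ Nat.card (isometryGroup F (quadFormMinus (2 - 1) F a b)) := by
    rw [S0288.result hF 2 (by omega) a b hab]
    refine Dvd.dvd.mul_right (Dvd.dvd.mul_left ?_ _) _
    exact hr.dvd_add (by norm_num) (by norm_num)
  obtain ⟨x₀, hx₀⟩ := exists_prime_orderOf_dvd_card' r h1
  have h2 : u ∣ Nat.card (isometryGroup F (quadFormPlus 1 F)) := by
    rw [S0287.result hF 1 le_rfl, pow_one]
    exact Dvd.dvd.mul_right (Dvd.dvd.mul_left huq _) _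
  obtain ⟨g, hg⟩ := exists_prime_orderOf_dvd_card' u h2
  have hg1 : g ≠ 1 := by
    rintro rfl
    rw [orderOf_one] at hg
    exact hu.one_lt.ne hg
  have hr2 : r ≠ 2 := by
    have := hr.odd (by omega)
    omega
  -- the embedding
  let φ : (isometryGroup F (quadFormPlus 1 F) × isometryGroup F (quadFormPlus 1 F)) ×
      isometryGroup F (quadFormMinus 1 F a b) →* isometryGroup F (quadFormMinus (2 + 1) F a b) :=
    (minusSum 2 1 a b).comp (MonoidHom.prodMap (plusSum 1 1 F) (MonoidHom.id _))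
  have hφ : Function.Injective φ :=
    (minusSum_injective 2 1 a b).comp ((plusSum_injective 1 1).prodMap Function.injective_id)
  have hcard : Fintype.card ((Fin 3 ⊕ Fin 3) ⊕ Fin 2) = 8 := by decide
  refine exists_comm3' (quadMinus 3 F a b) (quadMinus_nondegenerate hab) (by rw [hcard]; norm_num)
    (quadMinus_isotropic (by omega) _ _) (coe_quadMinus _ _ _ _) (x := φ (1, x₀)) (w₁ := φ ((g, 1), 1))
    (w₂ := φ ((1, g), 1)) hr.prime hr2 hu hu2 ?_ ?_ ?_ ?_ ?_ ?_ ?_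
  · rw [orderOf_injective _ hφ, Prod.orderOf_mk, orderOf_one, Nat.lcm_one_left]
    exact hx₀
  · rw [orderOf_injective _ hφ, Prod.orderOf_mk, Prod.orderOf_mk, orderOf_one, orderOf_one, hg, Nat.lcm_one_right,
      Nat.lcm_one_right]
  · rw [orderOf_injective _ hφ, Prod.orderOf_mk, Prod.orderOf_mk, orderOf_one, orderOf_one, hg, Nat.lcm_one_left,
      Nat.lcm_one_right]
  · rw [← map_mul, ← map_mul]
    congr 1
    simp
  · rw [← map_mul, ← map_mul]
    congr 1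
    simp
  · rw [← map_mul, ← map_mul]
    congr 1
    simp
  · intro h
    obtain ⟨k, hk⟩ := Subgroup.mem_zpowers_iff.1 h
    rw [← map_zpow] at hk
    have h3 := hφ hk
    have h4 := congrArg (fun y => y.1.2) h3
    have h5 : (1 : isometryGroup F (quadFormPlus 1 F)) ^ k = g := h4
    rw [_root_.one_zpow] at h5
    exact hg1 h5.symm

/-- **Part B, `n = 4`** -/
theorem partB4 {T : Type*} [Group T] {M : Subgroup T} {f r : ℕ} (hf : 2 ≤ f)
    (hM : ∃ S : Subgroup M, S.Normal ∧ IsSimpleGroup S ∧ ¬ IsMulCommutative S ∧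
      Subgroup.centralizer (S : Set M) = ⊥ ∧ IsNamed (.ominus 4 (2 ^ f)) S) (hr : Prim 2 (4 * f) r) :
    ∃ u : ℕ, u.Prime ∧ 2 < u ∧ u ∣ 2 ^ f - 1 ∧ u ∣ (2 ^ f) ^ 2 - 1 ∧
      ∃ x w₁ w₂ : T, x ∈ M ∧ w₁ ∈ M ∧ w₂ ∈ M ∧ orderOf x = r ∧ orderOf w₁ = u ∧ orderOf w₂ = u ∧
        x * w₁ = w₁ * x ∧ x * w₂ = w₂ * x ∧ w₁ * w₂ = w₂ * w₁ ∧ w₂ ∉ Subgroup.zpowers w₁ := by
  obtain ⟨S, -, -, -, -, hS⟩ := hM
  have h4 : 4 ≤ 2 ^ f := by
    calc 4 = 2 ^ 2 := by norm_num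
      _ ≤ 2 ^ f := Nat.pow_le_pow_right (by norm_num) hf
  obtain ⟨u, hu, hud⟩ := Nat.exists_prime_and_dvd (n := 2 ^ f - 1) (by omega)
  have hev : 2 ∣ 2 ^ f := dvd_pow_self 2 (by omega)
  have hu2 : u ≠ 2 := by
    rintro rfl
    omega
  have hul : 2 < u := lt_of_le_of_ne hu.two_le (Ne.symm hu2)
  obtain ⟨F, _, _, a, b, hF, hab, ⟨e⟩⟩ := hS.real
  obtain ⟨x, w₁, w₂, hx, h1, h2, hx1, hx2, h12, hne⟩ := comm3_minus hF hab (prim_pow (by omega) hr) hu hu2 hud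
  have hinj : Function.Injective (M.subtype.comp (S.subtype.comp e.symm.toMonoidHom)) :=
    M.subtype_injective.comp (S.subtype_injective.comp e.symm.injective)
  set ψ := M.subtype.comp (S.subtype.comp e.symm.toMonoidHom) with hψ
  have hmem : ∀ y, ψ y ∈ M := fun y => (S.subtype (e.symm y)).2
  refine ⟨u, hu, hul, hud, ?_, ψ x, ψ w₁, ψ w₂, hmem _, hmem _, hmem _, ?_, ?_, ?_, ?_, ?_, ?_, ?_⟩
  · refine hud.trans ?_
    have := Nat.sq_sub_sq (2 ^ f) 1
    rw [one_pow] at this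
    rw [this]
    exact Dvd.intro_left _ rfl
  · rw [orderOf_injective _ hinj, hx]
  · rw [orderOf_injective _ hinj, h1]
  · rw [orderOf_injective _ hinj, h2]
  · rw [← map_mul, hx1, map_mul]
  · rw [← map_mul, hx2, map_mul]
  · rw [← map_mul, h12, map_mul]
  · intro h
    obtain ⟨k, hk⟩ := Subgroup.mem_zpowers_iff.1 h
    rw [← map_zpow] at hk
    exact hne ⟨k, hinj hk⟩

end Cfsg.Agent.H884.Mx
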