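import Cfsg.Agent.H884.Mx.Comm
import Cfsg.Agent.H57.BG.Kill
import Cfsg.Agent.H899.Pt.Grp

/-!
# `C_r × C_r` in the same-characteristic subgroups (helper884, part C of S3679)

`PΩ⁻_{2n}(q)`, `PSp_{2n-2}(q)`, `Ω_{2n-1}(q)` and the almost simple groups with these socles have no subgroup `C_r × C_r`
(`ord_r(q) = n` even).
-/

set_option autoImplicit false

namespace Cfsg.Agent.H884.Mx

open Cfsg Matrix QuadraticMap Module Cfsg.Agent.LieClassical.OmegaReindex
open Cfsg.Agent.OrdDiv Cfsg.Agent.H436 Cfsg.Agent.H884.El Cfsg.Agent.H884.Ig Cfsg.Agent.H884.Cg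
open Cfsg.Agent.H899.CG Cfsg.Agent.H915.GN Cfsg.Agent.H955 Cfsg.Agent.LieClassical.OrthCore
open Cfsg.Agent.H951 (fx cm Inv)

universe u

/-- elements of prime order not dividing `|Out S|` lie in `S` -/
theorem mem_socle {M : Type u} [Group M] [Finite M] {S : Subgroup M} (hS : S.Normal)
    (hC : Subgroup.centralizer (S : Set M) = ⊥) {r : ℕ} (hr : r.Prime)
    (hout : ¬ r ∣ (MulAut.conj : S →* MulAut S).range.index) {x : M} (hx : x ^ r = 1) : x ∈ S := by
  have h1 : (MulAut.conjNormal (H := S) x) ∈ H57.BG.Inn S := by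
    refine H57.BG.mem_inn_of_pow hr hout (k := 1) ?_
    rw [pow_one, ← map_pow, hx, map_one]
  obtain ⟨s, hs⟩ := h1
  have h2 : (s : M)⁻¹ * x ∈ Subgroup.centralizer (S : Set M) := by
    rw [Subgroup.mem_centralizer_iff]
    intro h hh
    have h3 : (s : M) * h * (s : M)⁻¹ = x * h * x⁻¹ := by
      have h4 := congrArg (fun a : MulAut S => ((a ⟨h, hh⟩ : S) : M)) hs
      exact h4.trans (MulAut.conjNormal_apply x ⟨h, hh⟩)
    calc h * ((s : M)⁻¹ * x) = (s : M)⁻¹ * ((s : M) * h * (s : M)⁻¹) * x := by group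
      _ = (s : M)⁻¹ * (x * h * x⁻¹) * x := by rw [h3]
      _ = (s : M)⁻¹ * x * h := by group
  rw [hC, Subgroup.mem_bot, inv_mul_eq_one] at h2
  rw [← h2]
  exact s.2

/-- **`PΩ⁻_{2n}(q)`** -/
theorem cycW_minus {F : Type} [Field F] [Fintype F] {n r : ℕ} {a b : F}
    (hab : ∀ z₁ z₂ : F, z₁ ^ 2 + a * z₁ * z₂ + b * z₂ ^ 2 = 0 → z₁ = 0 ∧ z₂ = 0) (hn : Even n) (h4 : 4 ≤ n)
    (hr : PP (Nat.card F) n r) (hT : r ∣ Nat.card (POmega F (quadFormMinus (n - 1) F a b))) :
    CycW (POmega F (quadFormMinus (n - 1) F a b)) r := by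
  have hQ : Nondeg (quadMinus (n - 1) F a b) := nondeg_iff.2 (quadMinus_nondegenerate (m := n - 1) hab)
  have key := cycW_orth' (Q := quadMinus (n - 1) F a b) (data_minus h4 hab) hr (by omega) (d := n) (by omega)
    (fun g hg hgr hg1 => ?_) (by rw [coe_quadMinus]; exact hT)
  · rw [coe_quadMinus] at key
    exact key
  · have hx : lin g ^ r = 1 := by rw [← H251.GeoCard.toLin_pow, hgr]; exact lin_one
    have hI := Iso.mk' hr (by omega) hx (lin_iso le_rfl hg)
    obtain ⟨A, hA⟩ := hI.dvd_cm hr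
    have h2 : finrank F (cm (lin g)) ≤ 2 * n := by
      have := Submodule.finrank_le (cm (lin g))
      rwa [finrank_V, card_minus (by omega)] at this
    have h3 : finrank F (cm (lin g)) ≠ 0 := fun h0 =>
      cm_ne_bot (lin_ne_one hg1) (Submodule.finrank_eq_zero.1 h0)
    have hA0 : A ≠ 0 := by rintro rfl; omega
    have hA2 : A ≤ 2 := by
      by_contra hcon
      have h5 : n * 3 ≤ n * A := Nat.mul_le_mul_left n (by omega)
      omega
    have hA12 : A = 1 ∨ A = 2 := by omega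
    rcases hA12 with rfl | rfl
    · rw [hA, mul_one]
    · exfalso
      have h5 := hI.even_two hQ hr hn hA
      have h6 : cm (lin g) = ⊤ := by
        apply Submodule.eq_top_of_finrank_eq
        rw [hA, finrank_V, card_minus (by omega), mul_comm]
      rw [h6] at h5
      exact not_isPlus_quadMinus hab (IsPlus.of_equiv Submodule.topEquiv (fun v => rfl) h5)

/-- `r` divides the order -/
theorem dvd_named {X : Type*} [Group X] {g : Grp} {q n r : ℕ}
    (hg : g = .ominus n q ∨ g = .psp (n - 1) q ∨ g = .oodd (n - 1) q) (hX : IsNamed g X) (hn : Even n) (h4 : 4 ≤ n)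
    (hr : Prim q n r) : r ∣ Nat.card X := by
  have h5 := five_le' hr (by omega)
  obtain ⟨k, hk⟩ := hn
  have hprB : ∀ m, k ≤ m → r ∣ prB q m := by
    intro m hm
    have h3 := prB_dvd (q := q) (m := m) (i := k - 1) (by omega)
    refine Dvd.dvd.trans ?_ h3
    rw [show 2 * (k - 1 + 1) = n by omega]
    exact hr.dvd dvd_rfl
  have hcop : ∀ c e : ℕ, 1 ≤ e → e ≤ 4 → r ∣ Nat.gcd e c → False := fun c e he he4 h =>
    not_dvd_le h5 he he4 h
  rcases hg with rfl | rfl | rfl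
  · have h1 : Nat.gcd 4 (q ^ n + 1) * Nat.card X = q ^ (n * (n - 1)) * ((q ^ n + 1) * prB q (n - 1)) := hX.eq
    have h2 : r ∣ Nat.gcd 4 (q ^ n + 1) * Nat.card X := by
      rw [h1]
      exact ((hprB _ (by omega)).mul_left _).mul_left _
    exact (hr.prime.dvd_mul.1 h2).resolve_left (fun h => hcop _ _ (by omega) le_rfl h)
  · have h1 : Nat.gcd 2 (q - 1) * Nat.card X = q ^ ((n - 1) ^ 2) * prB q (n - 1) := hX.eq
    have h2 : r ∣ Nat.gcd 2 (q - 1) * Nat.card X := by
      rw [h1]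
      exact (hprB _ (by omega)).mul_left _
    exact (hr.prime.dvd_mul.1 h2).resolve_left (fun h => hcop _ _ (by omega) (by omega) h)
  · have h1 : 2 * Nat.card X = q ^ ((n - 1) ^ 2) * prB q (n - 1) := hX.eq
    have h2 : r ∣ 2 * Nat.card X := by
      rw [h1]
      exact (hprB _ (by omega)).mul_left _
    exact (hr.prime.dvd_mul.1 h2).resolve_left (fun h => by
      have := Nat.le_of_dvd (by norm_num) h
      omega)

/-- **`CycW` of the named groups** -/
theorem cycW_of_named {X : Type u} [Group X] {g : Grp} {q n r : ℕ}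
    (hg : g = .ominus n q ∨ g = .psp (n - 1) q ∨ g = .oodd (n - 1) q) (hX : IsNamed g X) (hn : Even n) (h4 : 4 ≤ n)
    (hr : Prim q n r) : CycW X r := by
  have hrX := dvd_named hg hX hn h4 hr
  rcases hg with rfl | rfl | rfl
  · obtain ⟨F, _, _, a, b, hF, hab, ⟨f⟩⟩ := hX.real
    have hpp : PP (Nat.card F) n r := by
      rw [Nat.card_eq_fintype_card, hF]
      exact pp_of_prim (hX.cond.2.pos) hr
    exact CycW.congr f.symm (cycW_minus hab hn h4 hpp (by rwa [← Nat.card_congr f.toEquiv]))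
  · obtain ⟨F, _, _, hF, ⟨f⟩⟩ := hX.real
    have hre : Real (.psp (n - 1) q) (PSp (n - 1) F) :=
      ⟨F, inferInstance, inferInstance, hF, ⟨MulEquiv.refl _⟩⟩
    have hY : IsNamed (.psp (n - 1) q) (PSp (n - 1) F) :=
      .mk' hre hX.cond (by rw [← Nat.card_congr f.toEquiv]; exact hX.eq)
    exact CycW.congr f.symm (cycW_named (g := .psp (n - 1) q) hY (e := n)
      (by simp only [InE]; have := Nat.even_iff.1 hn; omega) hr)
  · obtain ⟨F, _, _, hF, ⟨f⟩⟩ := hX.real
    have hre : Real (.oodd (n - 1) q) (POmega F (quadFormOdd (n - 1) F)) :=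
      ⟨F, inferInstance, inferInstance, hF, ⟨MulEquiv.refl _⟩⟩
    have hY : IsNamed (.oodd (n - 1) q) (POmega F (quadFormOdd (n - 1) F)) :=
      .mk' hre hX.cond (by rw [← Nat.card_congr f.toEquiv]; exact hX.eq)
    exact CycW.congr f.symm (cycW_named (g := .oodd (n - 1) q) hY (e := n)
      (by simp only [InE]; have := Nat.even_iff.1 hn; omega) hr)

/-- **Part C** -/
theorem partC {T : Type u} [Group T] [Finite T] {M : Subgroup T} {g : Grp} {p f n r : ℕ} (hp : p.Prime) (hf : 1 ≤ f)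
    (hg : g = .ominus n (p ^ f) ∨ g = .psp (n - 1) (p ^ f) ∨ g = .oodd (n - 1) (p ^ f))
    (hM : ∃ S : Subgroup M, S.Normal ∧ IsSimpleGroup S ∧ ¬ IsMulCommutative S ∧
      Subgroup.centralizer (S : Set M) = ⊥ ∧ IsNamed g S) (hn : Even n) (h4 : 4 ≤ n) (hr : Prim p (n * f) r) :
    r ∣ Nat.card M ∧ H899.Pt.NoSq M r := by
  obtain ⟨S, hSn, hSs, hSc, hC, hS⟩ := hM
  have hrq := prim_pow hf hr
  have h5 := five_le' hrq (by omega)
  have hrS := dvd_named hg hS hn h4 hrq
  have hna : ¬ ∀ a b : S, a * b = b * a := fun h => hSc ⟨⟨h⟩⟩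
  have hra : ¬ r ∣ f := by
    intro h
    have h6 := (prim_mod hr (by
      have : 4 * 1 ≤ n * f := Nat.mul_le_mul h4 hf
      omega)).2
    have h7 := Nat.le_of_dvd (by omega) h
    have h8 : f * 1 ≤ f * n := Nat.mul_le_mul_left f (by omega)
    rw [mul_comm n f] at h6
    omega
  have hout : ¬ r ∣ (MulAut.conj : S →* MulAut S).range.index := by
    have h2 : ¬ r ∣ (p ^ f) ^ 2 - 1 := not_dvd_sq hrq (by omega)
    rcases hg with rfl | rfl | rfl
    · exact not_dvd_out hna hp hS ⟨f, rfl⟩ hr.prime h5 (a := f) rfl hra h2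
    · exact not_dvd_out hna hp hS ⟨f, rfl⟩ hr.prime h5 (a := f) rfl hra h2
    · exact not_dvd_out hna hp hS ⟨f, rfl⟩ hr.prime h5 (a := f) rfl hra h2
  refine ⟨hrS.trans (Subgroup.card_subgroup_dvd_card S), ?_⟩
  intro x hx y hy hxo hyo hxy
  have hx1 : (⟨x, hx⟩ : M) ∈ S := mem_socle hSn hC hr.prime hout (Subtype.ext (by rw [← hxo]; exact pow_orderOf_eq_one x))
  have hy1 : (⟨y, hy⟩ : M) ∈ S := mem_socle hSn hC hr.prime hout (Subtype.ext (by rw [← hyo]; exact pow_orderOf_eq_one y))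
  have h6 := (cycW_of_named hg hS hn h4 hrq).2.2 ⟨⟨x, hx⟩, hx1⟩ ⟨⟨y, hy⟩, hy1⟩
    (by rw [Subgroup.orderOf_mk, Subgroup.orderOf_mk, hxo]) (by rw [Subgroup.orderOf_mk, Subgroup.orderOf_mk, hyo])
    (Subtype.ext (Subtype.ext hxy))
  obtain ⟨k, hk⟩ := Subgroup.mem_zpowers_iff.1 h6
  exact ⟨k, congrArg (fun u : S => ((u : M) : T)) hk⟩

end Cfsg.Agent.H884.Mx
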